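import Groth.Prelude.Def_Flatn
import Groth.Prelude.Def_Mor2
import Groth.Agent.MagnetLib.RepGlue
import Groth.Agent.S7194
import Groth.Agent.GrpdLib.FiniteInAffine

/-!
# Representability of relative morphism functors by gluing
-/

set_option autoImplicit false
set_option backward.isDefEq.respectTransparency false
set_option backward.isDefEq.respectTransparency.types false

universe u

open CategoryTheory CategoryTheory.Limits AlgebraicGeometry Opposite

noncomputable section

namespace Groth.Agent.MorSGlue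

variable {Z X S : Scheme.{u}} (g : Z ⟶ S) (f : X ⟶ S)

theorem isSheaf_morS : Presieve.IsSheaf (Scheme.zariskiTopology.{u}.over S) (Flatn.morS g f) := by
  have hy : Presheaf.IsSheaf (Scheme.zariskiTopology.{u}.over S) (yoneda.obj (Over.mk f)) :=
    (isSheaf_iff_isSheaf_of_type _ _).2 (GrothendieckTopology.Subcanonical.isSheaf_of_isRepresentable _)
  have h1 := (Over.map g).op_comp_isSheaf_of_types (Scheme.zariskiTopology.{u}.over Z)
    (Scheme.zariskiTopology.{u}.over S) ⟨_, hy⟩
  have h2 := (Over.pullback g).op_comp_isSheaf_of_types (Scheme.zariskiTopology.{u}.over S)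
    (Scheme.zariskiTopology.{u}.over Z) ⟨_, (isSheaf_iff_isSheaf_of_type _ _).2 h1⟩
  exact h2

section Local

variable (V : S.Opens)

/-- The base change of `g` to an open of the base. -/
abbrev gV : pullback g V.ι ⟶ V := pullback.snd g V.ι

/-- Comparison between the two fibre products over a test scheme factoring through `V`. -/
def kap {T : Scheme.{u}} (t : T ⟶ S) (τ : T ⟶ V) (h : τ ≫ V.ι = t) :
    pullback t g ⟶ pullback τ (gV g V) :=
  pullback.lift (pullback.fst t g)
    (pullback.lift (pullback.snd t g) (pullback.fst t g ≫ τ)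
      (by rw [Category.assoc, h, pullback.condition]))
    (by rw [pullback.lift_snd])

def kapInv {T : Scheme.{u}} (t : T ⟶ S) (τ : T ⟶ V) (h : τ ≫ V.ι = t) :
    pullback τ (gV g V) ⟶ pullback t g :=
  pullback.lift (pullback.fst _ _) (pullback.snd _ _ ≫ pullback.fst g V.ι)
    (by rw [← h, pullback.condition_assoc, Category.assoc, pullback.condition])

instance isIso_kap {T : Scheme.{u}} (t : T ⟶ S) (τ : T ⟶ V) (h : τ ≫ V.ι = t) :
    IsIso (kap g V t τ h) :=
  ⟨kapInv g V t τ h, by
    apply pullback.hom_ext <;> simp [kap, kapInv], by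
    apply pullback.hom_ext
    · simp [kap, kapInv]
    · apply pullback.hom_ext
      · simp [kap, kapInv]
      · simp [kap, kapInv, pullback.condition]⟩

end Local

theorem isPullback_map {T M : Over S} (φ : T ⟶ M) :
    IsPullback ((Over.map g).map ((Over.pullback g).map φ)).left (pullback.fst T.hom g)
      (pullback.fst M.hom g) φ.left := by
  have e₁ : ((Over.map g).map ((Over.pullback g).map φ)).left ≫ pullback.snd M.hom g =
      pullback.snd T.hom g := pullback.lift_snd _ _ _
  refine IsPullback.of_right ?_ (pullback.lift_fst _ _ _)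
    (IsPullback.of_hasPullback M.hom g).flip
  rw [e₁]
  simpa [Over.w φ] using (IsPullback.of_hasPullback T.hom g).flip

/-- Gluing: if images of the fibres lie in affine opens, the functor of morphisms is representable. -/
theorem representable' (hg : Mor2.IsFinLocFree g)
    (hAF : ∀ (T : Over S) (w : pullback T.hom g ⟶ X) (t : T.left), w ≫ f = pullback.fst T.hom g ≫ T.hom →
      ∃ U : X.Opens, IsAffineOpen U ∧ w '' ((pullback.fst T.hom g) ⁻¹' {t}) ⊆ U) :
    (Flatn.morS g f).IsRepresentable := by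
  have : IsFinite g := hg.1
  have : Flat g := hg.2.1
  have : LocallyOfFinitePresentation g := hg.2.2
  let I : Type u := { p : S.Opens × X.Opens // IsAffineOpen p.1 ∧ IsAffineOpen p.2 ∧ p.2 ≤ f ⁻¹ᵁ p.1 }
  let V : I → S.Opens := fun i => i.1.1
  let U : I → X.Opens := fun i => i.1.2
  have hUV : ∀ i, Set.range ((U i).ι ≫ f) ⊆ Set.range (V i).ι := by
    rintro i _ ⟨x, rfl⟩
    rw [Scheme.Opens.range_ι]
    exact i.2.2.2 x.2
  let fU : ∀ i, (U i : Scheme.{u}) ⟶ V i := fun i => IsOpenImmersion.lift (V i).ι ((U i).ι ≫ f) (hUV i)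
  have hfU : ∀ i, fU i ≫ (V i).ι = (U i).ι ≫ f := fun i => IsOpenImmersion.lift_fac _ _ _
  have hW : ∀ i, ∃ W : Over (V i : Scheme.{u}),
      Nonempty ((Flatn.morS (gV g (V i)) (fU i)).RepresentableBy W) := fun i => by
    have : IsAffine (V i) := i.2.1
    have : IsAffine (U i) := i.2.2.1
    have : IsAffineHom (fU i) := isAffineHom_of_isAffine _
    obtain ⟨W, -, e⟩ := S7194.result (gV g (V i)) (fU i)
      ⟨inferInstance, inferInstance, inferInstance⟩
    exact ⟨W, e⟩
  choose W e using hW
  let ev := fun i => Classical.choice (e i)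
  let H : I → Over S := fun i => Over.mk ((W i).hom ≫ (V i).ι)
  let uu : ∀ i, (Over.map (gV g (V i))).obj ((Over.pullback (gV g (V i))).obj (W i)) ⟶ Over.mk (fU i) :=
    fun i => (ev i).homEquiv (𝟙 (W i))
  let z : ∀ i, (Flatn.morS g f).obj (op (H i)) := fun i =>
    (Over.homMk (kap g (V i) (H i).hom (W i).hom rfl ≫ (uu i).left ≫ (U i).ι) (by
      change (kap g (V i) _ _ _ ≫ (uu i).left ≫ (U i).ι) ≫ f = pullback.snd _ g ≫ g
      have := Over.w (uu i)
      change (uu i).left ≫ fU i = pullback.snd _ (gV g (V i)) ≫ gV g (V i) at this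
      rw [Category.assoc, Category.assoc, ← hfU, reassoc_of% this]
      simp [kap, pullback.condition, H]) :
      (Over.map g).obj ((Over.pullback g).obj (H i)) ⟶ Over.mk f)
  have hzmap : ∀ i (T : Over S) (a : T ⟶ H i),
      ((Flatn.morS g f).map a.op (z i) :
        (Over.map g).obj ((Over.pullback g).obj T) ⟶ Over.mk f).left =
        kap g (V i) T.hom (a.left ≫ (W i).hom) ((Category.assoc _ _ _).trans (Over.w a)) ≫
          ((ev i).homEquiv (Over.homMk a.left rfl : Over.mk (a.left ≫ (W i).hom) ⟶ W i) :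
            (Over.map (gV g (V i))).obj ((Over.pullback (gV g (V i))).obj (Over.mk (a.left ≫ (W i).hom))) ⟶
              Over.mk (fU i)).left ≫ (U i).ι := by
    intro i T a
    let aV : Over.mk (a.left ≫ (W i).hom) ⟶ W i := Over.homMk a.left rfl
    have h1 := (ev i).homEquiv_comp aV (𝟙 (W i))
    rw [Category.comp_id] at h1
    refine Eq.trans ?_ (congrArg (fun q : (Over.map (gV g (V i))).obj ((Over.pullback (gV g (V i))).obj
      (Over.mk (a.left ≫ (W i).hom))) ⟶ Over.mk (fU i) =>
        kap g (V i) T.hom (a.left ≫ (W i).hom) ((Category.assoc _ _ _).trans (Over.w a)) ≫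
          q.left ≫ (U i).ι) h1.symm)
    change ((Over.map g).map ((Over.pullback g).map a)).left ≫ kap g (V i) _ _ _ ≫ (uu i).left ≫ (U i).ι =
      kap g (V i) _ _ _ ≫ (((Over.map (gV g (V i))).map ((Over.pullback (gV g (V i))).map aV)).left ≫
        (uu i).left) ≫ (U i).ι
    simp only [← Category.assoc]
    congr 2
    apply pullback.hom_ext
    · simp [kap, H, aV]
    · apply pullback.hom_ext <;> simp [kap, H, aV]
  have hmono : ∀ i (T : Over S) (a b : T ⟶ H i),
      (Flatn.morS g f).map a.op (z i) = (Flatn.morS g f).map b.op (z i) → a = b := by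
    intro i T a b hab
    have hτ : a.left ≫ (W i).hom = b.left ≫ (W i).hom := by
      rw [← cancel_mono (V i).ι, Category.assoc, Category.assoc]
      exact (Over.w a).trans (Over.w b).symm
    have := (hzmap i T a).symm.trans ((congrArg Over.Hom.left hab).trans (hzmap i T b))
    have key : ∀ (τ₁ τ₂ : T.left ⟶ V i) (_ : τ₁ = τ₂) (h₁ : τ₁ ≫ (V i).ι = T.hom) (h₂ : τ₂ ≫ (V i).ι = T.hom)
        (c₁ : Over.mk τ₁ ⟶ W i) (c₂ : Over.mk τ₂ ⟶ W i),
        kap g (V i) T.hom τ₁ h₁ ≫ ((ev i).homEquiv c₁ :
            (Over.map (gV g (V i))).obj ((Over.pullback (gV g (V i))).obj (Over.mk τ₁)) ⟶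
              Over.mk (fU i)).left ≫ (U i).ι =
        kap g (V i) T.hom τ₂ h₂ ≫ ((ev i).homEquiv c₂ :
            (Over.map (gV g (V i))).obj ((Over.pullback (gV g (V i))).obj (Over.mk τ₂)) ⟶
              Over.mk (fU i)).left ≫ (U i).ι → c₁.left = c₂.left := by
      intro τ₁ τ₂ e₁ h₁ h₂ c₁ c₂ he
      subst e₁
      rw [cancel_epi, cancel_mono] at he
      exact congrArg CommaMorphism.left ((ev i).homEquiv.injective (Over.OverMorphism.ext he))
    exact Over.OverMorphism.ext (key _ _ hτ _ _ _ _ this)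
  have hlift : ∀ i (T : Over S) (τ : T.left ⟶ V i) (_ : τ ≫ (V i).ι = T.hom)
      (w : (Over.map g).obj ((Over.pullback g).obj T) ⟶ Over.mk f),
      Set.range w.left ⊆ (U i : Set X) → ∃ b : T ⟶ H i, (Flatn.morS g f).map b.op (z i) = w := by
    intro i T τ hτ w hw
    let β : pullback T.hom g ⟶ U i := IsOpenImmersion.lift (U i).ι w.left (hw.trans (Scheme.Opens.range_ι _).ge)
    have hβ : β ≫ (U i).ι = w.left := IsOpenImmersion.lift_fac _ _ _
    let b' : (Over.map (gV g (V i))).obj ((Over.pullback (gV g (V i))).obj (Over.mk τ)) ⟶ Over.mk (fU i) :=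
      Over.homMk (inv (kap g (V i) T.hom τ hτ) ≫ β) (by
        change (inv _ ≫ β) ≫ fU i = pullback.snd τ (gV g (V i)) ≫ gV g (V i)
        rw [← cancel_mono (V i).ι, ← cancel_epi (kap g (V i) T.hom τ hτ)]
        simp only [Category.assoc, IsIso.hom_inv_id_assoc, hfU, reassoc_of% hβ]
        refine (Over.w w).trans ?_
        simp [kap, pullback.condition, hτ])
    let c := (ev i).homEquiv.symm b'
    refine ⟨Over.homMk c.left (by
      show c.left ≫ (W i).hom ≫ (V i).ι = T.hom
      rw [← Category.assoc]; exact (congrArg (· ≫ (V i).ι) (Over.w c)).trans hτ), ?_⟩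
    apply Over.OverMorphism.ext
    refine (hzmap i T _).trans (Eq.trans ?_ hβ)
    have key : ∀ (τ' : T.left ⟶ V i) (e1 : τ' = τ) (c' : Over.mk τ' ⟶ W i) (_ : c'.left = c.left)
        (hτ' : τ' ≫ (V i).ι = T.hom),
        kap g (V i) T.hom τ' hτ' ≫ ((ev i).homEquiv c' :
          (Over.map (gV g (V i))).obj ((Over.pullback (gV g (V i))).obj (Over.mk τ')) ⟶
            Over.mk (fU i)).left ≫ (U i).ι = β ≫ (U i).ι := by
      intro τ' e1 c' hc hτ'
      subst e1
      obtain rfl : c' = c := Over.OverMorphism.ext hc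
      rw [Equiv.apply_symm_apply]
      simp [b']
    exact key _ (Over.w c) _ rfl _
  have hloc : ∀ i (T : Over S) (w : (Flatn.morS g f).obj (op T)), ∃ O : T.left.Opens,
      ∀ (T' : Over S) (a : T' ⟶ T),
        (∃ b : T' ⟶ H i, (Flatn.morS g f).map b.op (z i) = (Flatn.morS g f).map a.op w) ↔
          Set.range a.left ⊆ (O : Set T.left) := by
    intro i T w
    let w' : (Over.map g).obj ((Over.pullback g).obj T) ⟶ Over.mk f := w
    let wl : pullback T.hom g ⟶ X := w'.left
    let Bad : Set (pullback T.hom g : Scheme.{u}) := wl ⁻¹' ((U i : Set X))ᶜ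
    let O : T.left.Opens := ⟨(T.hom ⁻¹' (V i : Set S)) ∩ ((pullback.fst T.hom g) '' Bad)ᶜ,
      ((V i).isOpen.preimage T.hom.continuous).inter ((pullback.fst T.hom g).isClosedMap _
        ((U i).isOpen.isClosed_compl.preimage wl.continuous)).isOpen_compl⟩
    refine ⟨O, fun T' a => ?_⟩
    let m := ((Over.map g).map ((Over.pullback g).map a)).left
    have hwa : ((Flatn.morS g f).map a.op w :
        (Over.map g).obj ((Over.pullback g).obj T') ⟶ Over.mk f).left = m ≫ wl := rfl
    have sq := isPullback_map g a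
    constructor
    · rintro ⟨b, hb⟩ _ ⟨t, rfl⟩
      refine ⟨?_, ?_⟩
      · show T.hom (a.left t) ∈ (V i : Set S)
        rw [← Scheme.Hom.comp_apply, Over.w a, ← Over.w b]
        show ((b.left ≫ (W i).hom) ≫ (V i).ι) t ∈ _
        rw [Category.assoc] at *
        exact ((b.left ≫ (W i).hom) t).2
      · rintro ⟨q, hq, hqt⟩
        obtain ⟨c, hc₁, -⟩ := Scheme.Pullback.exists_preimage_pullback
          (f := pullback.fst T.hom g) (g := a.left) q t hqt
        apply hq
        have hq' : m (sq.isoPullback.inv c) = q := by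
          change (sq.isoPullback.inv ≫ m) c = q
          rw [show sq.isoPullback.inv ≫ m = pullback.fst _ _ from sq.isoPullback_inv_fst]
          exact hc₁
        have h3 : m ≫ wl = _ := (congrArg Over.Hom.left hb).symm.trans (hzmap i T' b)
        show wl q ∈ (U i : Set X)
        rw [← hq']
        show wl.base (m.base (sq.isoPullback.inv c)) ∈ _
        rw [show wl.base (m.base (sq.isoPullback.inv c)) = (m ≫ wl) (sq.isoPullback.inv c) from rfl]
        erw [h3]
        simp only [Scheme.Hom.comp_apply]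
        exact Subtype.coe_prop _
    · intro h
      let τ : T'.left ⟶ V i := IsOpenImmersion.lift (V i).ι T'.hom (by
        rintro _ ⟨t, rfl⟩
        rw [Scheme.Opens.range_ι, ← Over.w a]
        exact (h ⟨t, rfl⟩).1)
      have hτ : τ ≫ (V i).ι = T'.hom := IsOpenImmersion.lift_fac _ _ _
      refine hlift i T' τ hτ ((Flatn.morS g f).map a.op w) ?_
      rw [hwa]
      rintro _ ⟨q, rfl⟩
      by_contra hn
      exact (h ⟨pullback.fst T'.hom g q, rfl⟩).2 ⟨m q, hn, congr($(sq.w) q)⟩
  have hcov : ∀ (T : Over S) (w : (Flatn.morS g f).obj (op T)) (t : T.left),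
      ∃ (i : I) (T' : Over S) (a : T' ⟶ T), IsOpenImmersion a.left ∧ t ∈ Set.range a.left ∧
        ∃ b : T' ⟶ H i, (Flatn.morS g f).map b.op (z i) = (Flatn.morS g f).map a.op w := by
    intro T w t
    let w' : (Over.map g).obj ((Over.pullback g).obj T) ⟶ Over.mk f := w
    let wl : pullback T.hom g ⟶ X := w'.left
    have hwl : wl ≫ f = pullback.fst T.hom g ≫ T.hom := (Over.w w').trans pullback.condition.symm
    let F₀ : Set X := wl '' ((pullback.fst T.hom g) ⁻¹' {t})
    have hF₀ : F₀.Finite := ((pullback.fst T.hom g).finite_preimage_singleton t).image wl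
    have hFs : ∀ x ∈ F₀, f x = T.hom t := by
      rintro _ ⟨q, hq, rfl⟩
      rw [← Scheme.Hom.comp_apply, hwl, Scheme.Hom.comp_apply, show pullback.fst T.hom g q = t from hq]
    obtain ⟨U₀, hU₀, hFU⟩ := hAF T wl t hwl
    obtain ⟨V₀, hV₀, htV, -⟩ := exists_isAffineOpen_mem_and_subset (x := T.hom t) (U := ⊤) trivial
    obtain ⟨r, hr, hrF⟩ := GrpdLib.exists_basicOpen_le_of_finite hU₀ (U := f ⁻¹ᵁ V₀) hF₀
      (fun y hy => by show f y ∈ V₀; rw [hFs y hy]; exact htV) hFU
    let i : I := ⟨(V₀, X.basicOpen r), hV₀, hU₀.basicOpen r, hr⟩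
    obtain ⟨O, hO⟩ := hloc i T w
    have htO : t ∈ O := by
      let a₀ : Over.mk (T.left.fromSpecResidueField t ≫ T.hom) ⟶ T := Over.homMk (T.left.fromSpecResidueField t) rfl
      refine (hO _ a₀).1 ?_ ⟨IsLocalRing.closedPoint _, Scheme.fromSpecResidueField_apply t _⟩
      refine hlift i _ (IsOpenImmersion.lift (V i).ι (T.left.fromSpecResidueField t ≫ T.hom) (by
        rintro _ ⟨y, rfl⟩
        rw [Scheme.Opens.range_ι, Scheme.Hom.comp_apply]
        erw [Scheme.fromSpecResidueField_apply]
        exact htV)) (IsOpenImmersion.lift_fac _ _ _) ((Flatn.morS g f).map a₀.op w) ?_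
      show Set.range (((Over.map g).map ((Over.pullback g).map a₀)).left ≫ wl) ⊆ _
      rintro _ ⟨q, rfl⟩
      refine hrF ⟨((Over.map g).map ((Over.pullback g).map a₀)).left q, ?_, rfl⟩
      show pullback.fst T.hom g _ = t
      exact (congr($((isPullback_map g a₀).w) q)).trans (Scheme.fromSpecResidueField_apply t _)
    let a : Over.mk (O.ι ≫ T.hom) ⟶ T := Over.homMk O.ι rfl
    exact ⟨i, _, a, show IsOpenImmersion O.ι from inferInstance,
      (Scheme.Opens.range_ι O).ge htO, (hO _ a).2 (Scheme.Opens.range_ι O).le⟩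
  obtain ⟨Y, ⟨r⟩⟩ := MagnetLib.RepGlue.representable_of_openCover _ (isSheaf_morS g f) H z hmono hloc hcov
  exact r.isRepresentable

/-- Gluing: if finite sets of points in a fibre lie in affine opens, the functor of morphisms is representable. -/
theorem representable (hg : Mor2.IsFinLocFree g)
    (hAF : ∀ (s : S) (d : ℕ) (x : Fin d → ↥X), (∀ k, f (x k) = s) → ∃ U : X.Opens, IsAffineOpen U ∧ ∀ k, x k ∈ U) :
    (Flatn.morS g f).IsRepresentable := by
  refine representable' g f hg fun T w t hw => ?_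
  have : IsFinite g := hg.1
  have hF : (w '' ((pullback.fst T.hom g) ⁻¹' {t})).Finite :=
    ((pullback.fst T.hom g).finite_preimage_singleton t).image w
  obtain ⟨d, x, hx⟩ : ∃ (d : ℕ) (x : Fin d → ↥X), Set.range x = w '' ((pullback.fst T.hom g) ⁻¹' {t}) := by
    have := hF.fintype
    exact ⟨_, Subtype.val ∘ (Fintype.equivFin _).symm, by rw [Set.range_comp, Equiv.range_eq_univ, Set.image_univ, Subtype.range_coe]⟩
  obtain ⟨U, hU, hxU⟩ := hAF (T.hom t) d x fun k => by
    obtain ⟨q, hq, hqk⟩ := hx.subset (⟨k, rfl⟩ : x k ∈ Set.range x)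
    rw [← hqk, ← Scheme.Hom.comp_apply, hw, Scheme.Hom.comp_apply, show pullback.fst T.hom g q = t from hq]
  refine ⟨U, hU, ?_⟩
  rw [← hx]
  rintro _ ⟨k, rfl⟩
  exact hxU k

end Groth.Agent.MorSGlue
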