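import Groth.Agent.S1864
import Groth.Agent.S7614
import Groth.Agent.S9204
import Groth.Prelude.Def_Red
import Groth.Agent.GrpdLib.FiniteInAffine
import Groth.Agent.AlgSpCov.IntegralDim
import Mathlib.RingTheory.Artinian.Module
import Mathlib.FieldTheory.IsAlgClosed.AlgebraicClosure
import Mathlib.Topology.NoetherianSpace

/-!
# Finite sets of points of group schemes over Artinian rings
-/

set_option autoImplicit false
set_option backward.isDefEq.respectTransparency false
set_option backward.isDefEq.respectTransparency.types false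

universe u

open CategoryTheory CategoryTheory.Limits AlgebraicGeometry TopologicalSpace

namespace Groth.Agent.MorSGlue

theorem finite_of_isClosed_of_forall_closed {X : Type u} [TopologicalSpace X] [NoetherianSpace X] [QuasiSober X]
    {C : Set X} (hC : IsClosed C) (h : ∀ y ∈ C, IsClosed ({y} : Set X)) : C.Finite := by
  obtain ⟨S, hS, hcl, hirr, rfl⟩ := NoetherianSpace.exists_finite_set_isClosed_irreducible hC
  refine Set.Finite.sUnion hS fun s hs => ?_
  obtain ⟨η, hη⟩ := QuasiSober.sober (hirr s hs) (hcl s hs)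
  have hηs : η ∈ ⋃₀ S := ⟨s, hs, hη.mem⟩
  rw [← hη.def, (h η hηs).closure_eq]
  exact Set.finite_singleton η

/-- A finite set of points of a group scheme of finite type over an Artinian ring lies in an affine open. -/
theorem exists_affine_of_finite_grp {A : Type u} [CommRing A] [IsArtinianRing A]
    (G : Over (Spec (CommRingCat.of A))) [GrpObj G] [LocallyOfFiniteType G.hom] [QuasiCompact G.hom]
    {F : Set G.left} (hF : F.Finite) : ∃ U : G.left.Opens, IsAffineOpen U ∧ F ⊆ U := by
  classical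
  let S := Spec (CommRingCat.of A)
  have : DiscreteTopology S := inferInstanceAs (DiscreteTopology (PrimeSpectrum A))
  have : Finite S := inferInstanceAs (Finite (PrimeSpectrum A))
  suffices h : ∀ m : S, ∃ U : G.left.Opens, IsAffineOpen U ∧ (U : Set G.left) ⊆ G.hom ⁻¹' {m} ∧
      F ∩ G.hom ⁻¹' {m} ⊆ U by
    choose U hU hUm hFU using h
    refine ⟨⨆ m, U m, IsAffineOpen.iSup_of_disjoint hU ?_, fun x hx => ?_⟩
    · intro m n hmn
      show Disjoint (U m) (U n)
      rw [disjoint_iff]
      refine Opens.ext (Set.eq_empty_iff_forall_notMem.2 fun x ⟨h1, h2⟩ => hmn ?_)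
      exact (hUm m h1).symm.trans (hUm n h2)
    · rw [SetLike.mem_coe, Opens.mem_iSup]
      exact ⟨_, hFU (G.hom x) ⟨hx, rfl⟩⟩
  intro m
  -- the residue field and an algebraic closure
  let p : Ideal A := PrimeSpectrum.asIdeal m
  have hp : p.IsMaximal := IsArtinianRing.isMaximal_of_isPrime p
  let κ := A ⧸ p
  let : Field κ := Ideal.Quotient.field p
  let L := AlgebraicClosure κ
  let φ : A →+* L := (algebraMap κ L).comp (Ideal.Quotient.mk p)
  let i : Spec (CommRingCat.of κ) ⟶ S := Spec.map (CommRingCat.ofHom (Ideal.Quotient.mk p))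
  let l : Spec (CommRingCat.of L) ⟶ Spec (CommRingCat.of κ) :=
    Spec.map (CommRingCat.ofHom (algebraMap κ L))
  have : IsClosedImmersion i := IsClosedImmersion.spec_of_surjective _ Ideal.Quotient.mk_surjective
  have : IsIntegralHom l := (IsIntegralHom.SpecMap_iff).2 (algebraMap_isIntegral_iff.2 inferInstance)
  let j := l ≫ i
  let GK := Red.bc j G
  have : LocallyOfFiniteType GK.hom := inferInstanceAs (LocallyOfFiniteType (pullback.snd G.hom j))
  have : QuasiCompact GK.hom := inferInstanceAs (QuasiCompact (pullback.snd G.hom j))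
  have : CompactSpace GK.left := QuasiCompact.compactSpace_of_compactSpace GK.hom
  have : IsLocallyNoetherian GK.left := LocallyOfFiniteType.isLocallyNoetherian GK.hom
  have : AlgebraicGeometry.IsNoetherian GK.left := { }
  let π : GK.left ⟶ G.left := pullback.fst G.hom j
  have : IsIntegralHom π := MorphismProperty.pullback_fst (P := @IsIntegralHom) _ _ inferInstance
  have hjr : Set.range j = {m} := by
    refine Set.Subset.antisymm ?_ ?_
    · rintro _ ⟨z, rfl⟩
      refine PrimeSpectrum.ext ?_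
      change Ideal.comap (Ideal.Quotient.mk p) (Ideal.comap (algebraMap κ L) z.asIdeal) = p
      rw [Ideal.eq_bot_of_prime z.asIdeal,
        ← RingHom.ker_eq_comap_bot, (RingHom.injective_iff_ker_eq_bot _).1 (algebraMap κ L).injective,
        ← RingHom.ker_eq_comap_bot, Ideal.mk_ker]
    · rintro _ rfl
      refine ⟨⟨⊥, Ideal.isPrime_bot⟩, PrimeSpectrum.ext ?_⟩
      change Ideal.comap (Ideal.Quotient.mk p) (Ideal.comap (algebraMap κ L) ⊥) = p
      rw [← RingHom.ker_eq_comap_bot, (RingHom.injective_iff_ker_eq_bot _).1 (algebraMap κ L).injective,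
        ← RingHom.ker_eq_comap_bot, Ideal.mk_ker]
  have hπr : Set.range π = G.hom ⁻¹' {m} := by rw [← hjr]; exact Scheme.Pullback.range_fst G.hom j
  have hfib : IsOpen (G.hom ⁻¹' {m}) := (isOpen_discrete _).preimage G.hom.continuous
  -- closed specializations
  have : CompactSpace G.left := QuasiCompact.compactSpace_of_compactSpace G.hom
  have hsp : ∀ x : G.left, G.hom x = m → ∃ x₀, IsClosed ({x₀} : Set G.left) ∧ x ⤳ x₀ ∧ G.hom x₀ = m := by
    intro x hx
    obtain ⟨x₀, h1, h2⟩ := (isClosed_closure (s := ({x} : Set G.left))).exists_closed_singleton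
      ⟨x, subset_closure rfl⟩
    refine ⟨x₀, h2, specializes_iff_mem_closure.2 h1, ?_⟩
    have := (specializes_iff_mem_closure.2 h1).map G.hom.continuous
    rw [hx] at this
    exact (this.mem_closed (isClosed_discrete {m}) rfl)
  let F₀ : Set G.left := {x | ∃ y ∈ F, ∃ h : G.hom y = m, (hsp y h).choose = x}
  have hF₀ : F₀.Finite := by
    refine ((hF.inter_of_left (G.hom ⁻¹' {m})).dependent_image fun y hy => (hsp y hy.2).choose).subset ?_
    rintro _ ⟨y, hy, h, rfl⟩
    exact ⟨y, ⟨hy, h⟩, rfl⟩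
  have hF₀c : ∀ x ∈ F₀, IsClosed ({x} : Set G.left) ∧ G.hom x = m := by
    rintro _ ⟨y, hy, h, rfl⟩
    exact ⟨(hsp y h).choose_spec.1, (hsp y h).choose_spec.2.2⟩
  have hcl : ∀ x ∈ F₀, ∀ y ∈ π ⁻¹' {x}, IsClosed ({y} : Set GK.left) := by
    intro x hx y hy
    rw [← closure_subset_iff_isClosed]
    intro z hz
    have hzy : y ⤳ z := specializes_iff_mem_closure.2 hz
    have hzx : π z = x := (hzy.map π.continuous).mem_closed (hF₀c x hx).1 hy
    exact (AlgSpCov.IntegralDim.eq_of_specializes_of_apply_eq π hzy (hy.trans hzx.symm)).symm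
  let P : Set GK.left := ⋃ x ∈ F₀, π ⁻¹' {x}
  have hP : P.Finite := hF₀.biUnion fun x hx =>
    finite_of_isClosed_of_forall_closed ((hF₀c x hx).1.preimage π.continuous) (hcl x hx)
  obtain ⟨n, g, hg⟩ : ∃ (n : ℕ) (g : Fin n → GK.left), Set.range g = P := by
    have := hP.fintype
    exact ⟨_, Subtype.val ∘ (Fintype.equivFin _).symm,
      by rw [Set.range_comp, Equiv.range_eq_univ, Set.image_univ, Subtype.range_coe]⟩
  obtain ⟨U, hU, hgU⟩ := S1864.result L GK n g fun k => by
    obtain ⟨x, hx, hxk⟩ := Set.mem_iUnion₂.1 (hg.subset (⟨k, rfl⟩ : g k ∈ Set.range g))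
    exact hcl x hx _ hxk
  let O : G.left.Opens := ⟨(G.hom ⁻¹' {m}) ∩ (π '' (U : Set GK.left)ᶜ)ᶜ,
    hfib.inter (π.isClosedMap _ U.isOpen.isClosed_compl).isOpen_compl⟩
  have hF₀O : F₀ ⊆ O := by
    intro x hx
    refine ⟨(hF₀c x hx).2, ?_⟩
    rintro ⟨y, hy, hyx⟩
    obtain ⟨k, rfl⟩ := hg.superset (Set.mem_iUnion₂.2 ⟨x, hx, hyx⟩)
    exact hy (hgU k)
  -- the part over `m` of `O` is quasi-affine
  let O₀ := pullback (O.ι ≫ G.hom) i
  let c : O₀ ⟶ (O : Scheme.{u}) := pullback.fst _ _
  have : IsClosedImmersion c := inferInstance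
  have hir : Set.range i = {m} := Set.Subset.antisymm
    (by
      rintro _ ⟨z, rfl⟩
      refine PrimeSpectrum.ext ?_
      change Ideal.comap (Ideal.Quotient.mk p) z.asIdeal = p
      rw [Ideal.eq_bot_of_prime z.asIdeal, ← RingHom.ker_eq_comap_bot, Ideal.mk_ker])
    (hjr.symm.le.trans (by
      rw [show (⇑j : _ → _) = ⇑i ∘ ⇑l from rfl]
      exact Set.range_comp_subset_range _ _))
  have hcs : Function.Surjective c := by
    intro y
    have : y ∈ Set.range c := by
      rw [Scheme.Pullback.range_fst, hir]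
      exact y.2.1
    exact this
  have hch : IsHomeomorph c.base :=
    isHomeomorph_iff_isEmbedding_surjective.2 ⟨c.isClosedEmbedding.isEmbedding, hcs⟩
  have : CompactSpace O₀ := by
    have : IsLocallyNoetherian G.left := LocallyOfFiniteType.isLocallyNoetherian G.hom
    have : AlgebraicGeometry.IsNoetherian G.left := { }
    have : CompactSpace O := isCompact_iff_compactSpace.mp (NoetherianSpace.isCompact _)
    exact QuasiCompact.compactSpace_of_compactSpace c
  letI : O₀.Over (Spec (CommRingCat.of κ)) := ⟨pullback.snd _ _⟩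
  have hq : (Curv2.bc κ O₀ L).IsQuasiAffine := by
    let a : Curv2.bc κ O₀ L ⟶ pullback (O.ι ≫ G.hom) j := (pullbackLeftPullbackSndIso _ i l).hom
    let b : pullback (O.ι ≫ G.hom) j ⟶ GK.left :=
      pullback.map (O.ι ≫ G.hom) j G.hom j O.ι (𝟙 _) (𝟙 _) (Category.comp_id _)
        ((Category.comp_id _).trans (Category.id_comp _).symm)
    have : IsIso a := inferInstanceAs (IsIso (pullbackLeftPullbackSndIso _ i l).hom)
    have : IsOpenImmersion b := inferInstanceAs (IsOpenImmersion (pullback.map ..))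
    have hr : Set.range (a ≫ b) ⊆ Set.range U.ι := by
      rintro _ ⟨y, rfl⟩
      rw [Scheme.Opens.range_ι]
      by_contra hn
      have h1 : (a ≫ b) ≫ π = (a ≫ pullback.fst _ _) ≫ O.ι := by simp [b, π, GK]
      exact ((a ≫ pullback.fst _ _) y).2.2 ⟨(a ≫ b) y, hn, congr($h1 y)⟩
    have : IsAffine U := hU
    let e := IsOpenImmersion.lift U.ι (a ≫ b) hr
    have : IsOpenImmersion (e ≫ U.ι) := by rw [IsOpenImmersion.lift_fac]; infer_instance
    have : IsOpenImmersion e := IsOpenImmersion.of_comp e U.ι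
    have : CompactSpace (Curv2.bc κ O₀ L) := QuasiCompact.compactSpace_of_compactSpace
      (pullback.fst (O₀ ↘ Spec (CommRingCat.of κ)) l)
    exact Scheme.IsQuasiAffine.of_isImmersion e
  have : O₀.IsQuasiAffine := S7614.result κ O₀ L
  have : (O : Scheme.{u}).IsQuasiAffine := (S9204.result c hch).2 inferInstance
  obtain ⟨V, hV, hFV⟩ := GrpdLib.exists_affine_of_finite_of_isQuasiAffine (X := (O : Scheme.{u}))
    (F := O.ι ⁻¹' F₀) (hF₀.preimage O.ι.isOpenEmbedding.injective.injOn)
  refine ⟨O.ι ''ᵁ V, hV.image_of_isOpenImmersion O.ι, ?_, ?_⟩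
  · rintro _ ⟨y, -, rfl⟩
    exact y.2.1
  · rintro y ⟨hy, hym⟩
    obtain ⟨h2, h3, -⟩ := (hsp y hym).choose_spec
    have hx : (hsp y hym).choose ∈ F₀ := ⟨y, hy, hym, rfl⟩
    exact h3.mem_open (O.ι ''ᵁ V).isOpen ⟨⟨_, hF₀O hx⟩, hFV hx, rfl⟩

end Groth.Agent.MorSGlue
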