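import Groth.Agent.MorSGlue.Basic
import Groth.Prelude.Def_WeilRes

/-!
# Weil restriction by gluing
-/

set_option autoImplicit false
set_option backward.isDefEq.respectTransparency false
set_option backward.isDefEq.respectTransparency.types false

universe u

open CategoryTheory CategoryTheory.Limits AlgebraicGeometry Opposite

noncomputable section

namespace Groth.Agent.MorSGlue

theorem exists_isWeilRes {S S' : Scheme.{u}} (f : S' ⟶ S) (hf : Mor2.IsFinLocFree f) (X' : Over S')
    (hM : (Flatn.morS f (X'.hom ≫ f)).IsRepresentable) :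
    ∃ (R : Over S) (q : Red.bc f R ⟶ X'), WeilRes.IsWeilRes f X' R q := by
  have : IsFinite f := hf.1
  obtain ⟨N, -, ⟨eN⟩⟩ := S7194.result f f hf
  obtain ⟨M, ⟨eM⟩⟩ := hM.has_representation
  let u : (Over.map f).obj ((Over.pullback f).obj M) ⟶ Over.mk (X'.hom ≫ f) := eM.homEquiv (𝟙 M)
  let p₁ : (Flatn.morS f f).obj (op M) :=
    (u ≫ Over.homMk X'.hom rfl : (Over.map f).obj ((Over.pullback f).obj M) ⟶ Over.mk f)
  let p₂ : (Flatn.morS f f).obj (op M) :=
    (Over.homMk (pullback.snd M.hom f) rfl : (Over.map f).obj ((Over.pullback f).obj M) ⟶ Over.mk f)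
  let a := eN.homEquiv.symm p₁
  let b := eN.homEquiv.symm p₂
  let j : equalizer a b ⟶ M := equalizer.ι a b
  have key : ∀ (T : Over S) (h : T ⟶ M), h ≫ a = h ≫ b ↔
      (eM.homEquiv h : (Over.map f).obj ((Over.pullback f).obj T) ⟶ Over.mk (X'.hom ≫ f)).left ≫ X'.hom =
        pullback.snd T.hom f := by
    intro T h
    have h0 : (eM.homEquiv h : (Over.map f).obj ((Over.pullback f).obj T) ⟶ Over.mk (X'.hom ≫ f)).left =
        ((Over.map f).map ((Over.pullback f).map h)).left ≫ u.left := by
      have := eM.homEquiv_comp h (𝟙 M)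
      rw [Category.comp_id] at this
      rw [this]
      rfl
    have h1 : ∀ p : (Flatn.morS f f).obj (op M),
        eN.homEquiv (h ≫ eN.homEquiv.symm p) = (Flatn.morS f f).map h.op p := fun p => by
      rw [eN.homEquiv_comp, Equiv.apply_symm_apply]
    have h2 : ((Over.map f).map ((Over.pullback f).map h)).left ≫ pullback.snd M.hom f =
        pullback.snd T.hom f := pullback.lift_snd _ _ _
    rw [← eN.homEquiv.injective.eq_iff, h1, h1]
    constructor
    · intro e
      have e' : ((Over.map f).map ((Over.pullback f).map h)).left ≫ u.left ≫ X'.hom =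
          ((Over.map f).map ((Over.pullback f).map h)).left ≫ pullback.snd M.hom f :=
        congrArg Over.Hom.left e
      rw [h0, Category.assoc]
      exact e'.trans h2
    · intro e
      apply Over.OverMorphism.ext
      show ((Over.map f).map ((Over.pullback f).map h)).left ≫ u.left ≫ X'.hom =
          ((Over.map f).map ((Over.pullback f).map h)).left ≫ pullback.snd M.hom f
      rw [h2, ← Category.assoc, ← h0]
      exact e
  let q : Red.bc f (equalizer a b) ⟶ X' := Over.homMk
    (eM.homEquiv j : (Over.map f).obj ((Over.pullback f).obj (equalizer a b)) ⟶ Over.mk (X'.hom ≫ f)).left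
    ((key _ j).1 (equalizer.condition a b))
  have hq : ∀ (T : Over S) (g : T ⟶ equalizer a b),
      (WeilRes.restr f q T g).left =
        (eM.homEquiv (g ≫ j) : (Over.map f).obj ((Over.pullback f).obj T) ⟶ Over.mk (X'.hom ≫ f)).left := by
    intro T g
    rw [eM.homEquiv_comp]
    rfl
  refine ⟨equalizer a b, q, fun T => ⟨fun g g' e => ?_, fun v => ?_⟩⟩
  · refine (cancel_mono j).1 (eM.homEquiv.injective (Over.OverMorphism.ext ?_))
    rw [← hq, ← hq, e]
  · let v' : (Flatn.morS f (X'.hom ≫ f)).obj (op T) :=
      (Over.homMk v.left (by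
        have := Over.w v
        change v.left ≫ X'.hom = pullback.snd T.hom f at this
        change v.left ≫ X'.hom ≫ f = pullback.snd T.hom f ≫ f
        rw [← Category.assoc, this]) :
        (Over.map f).obj ((Over.pullback f).obj T) ⟶ Over.mk (X'.hom ≫ f))
    have hv : eM.homEquiv.symm v' ≫ a = eM.homEquiv.symm v' ≫ b := by
      rw [key, Equiv.apply_symm_apply]
      exact Over.w v
    refine ⟨equalizer.lift (eM.homEquiv.symm v') hv, Over.OverMorphism.ext ?_⟩
    rw [hq, equalizer.lift_ι, Equiv.apply_symm_apply]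
    rfl

end Groth.Agent.MorSGlue
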